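import Groth.Prelude.Def_QFDual
import Groth.Agent.Lib.Disc25.EtaleDiscr

/-!
# The Dedekind complementary module
-/

set_option autoImplicit false

universe u

open TensorProduct Matrix

namespace Groth.Agent.QFDedekind

variable {K L : Type u} [CommRing K] [CommRing L] [Algebra K L]

theorem isUnit_traceMatrix [Module.Free K L] [Module.Finite K L] [Algebra.Etale K L]
    {ι : Type u} [Fintype ι] [DecidableEq ι] (b : Module.Basis ι K L) : IsUnit (Algebra.traceMatrix K b) := by
  rw [Matrix.isUnit_iff_isUnit_det, ← Algebra.discr_def]
  exact (Groth.Agent.Disc25.etale_iff_isUnit_discr b).1 inferInstance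

theorem eq_zero_of_trace_mul_eq_zero [Module.Free K L] [Module.Finite K L] [Algebra.Etale K L] {x : L}
    (h : ∀ y : L, Algebra.trace K L (x * y) = 0) : x = 0 := by
  classical
  rcases (subsingleton_or_nontrivial K).symm with hK | hK
  · let b := Module.Free.chooseBasis K L
    have hv : Algebra.traceMatrix K b *ᵥ ⇑(b.repr x) = 0 := by
      ext i
      have h1 := h (b i)
      rw [mul_comm, ← b.sum_repr x, Finset.mul_sum, map_sum] at h1
      simp only [Algebra.mul_smul_comm, map_smul, smul_eq_mul] at h1
      simpa [Matrix.mulVec, dotProduct, Algebra.traceMatrix, Algebra.traceForm_apply, mul_comm] using h1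
    apply b.repr.injective
    rw [map_zero]
    refine DFunLike.coe_injective ?_
    exact Matrix.mulVec_injective_of_isUnit (isUnit_traceMatrix b) (hv.trans (Matrix.mulVec_zero _).symm)
  · have := Module.subsingleton K L
    exact Subsingleton.elim _ _

theorem exists_trace_mul_eq [Module.Free K L] [Module.Finite K L] [Algebra.Etale K L] (φ : L →ₗ[K] K) :
    ∃ x : L, ∀ y : L, Algebra.trace K L (x * y) = φ y := by
  classical
  rcases subsingleton_or_nontrivial K with hK | hK
  · exact ⟨0, fun y => Subsingleton.elim _ _⟩
  let b := Module.Free.chooseBasis K L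
  obtain ⟨v, hv⟩ := (Matrix.mulVec_surjective_iff_isUnit.2 (isUnit_traceMatrix b)) (fun i => φ (b i))
  refine ⟨∑ j, v j • b j, fun y => ?_⟩
  have : (Algebra.trace K L) ∘ₗ LinearMap.mulLeft K (∑ j, v j • b j) = φ := by
    refine b.ext fun i => ?_
    have h1 := congrFun hv i
    simp only [Matrix.mulVec, dotProduct, Algebra.traceMatrix, Matrix.of_apply, Algebra.traceForm_apply] at h1
    rw [← h1, LinearMap.comp_apply, LinearMap.mulLeft_apply, Finset.sum_mul, map_sum]
    refine Finset.sum_congr rfl fun j _ => ?_
    rw [Algebra.smul_mul_assoc, map_smul, smul_eq_mul, mul_comm, mul_comm (b i) (b j)]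
  exact LinearMap.congr_fun this y

variable {A B : Type u} [CommRing A] [CommRing B] [Algebra A B] [Algebra A K] [Algebra B L] [Algebra A L]
  [IsScalarTower A K L] [IsScalarTower A B L]

theorem exists_linearEquiv (h : QFDual.IsDedekindDefined A K B L) :
    ∃ e : QFDual.complementary A K B L ≃ₗ[B] Disc.Omega A B, ∀ (x : QFDual.complementary A K B L) (b : B),
      algebraMap A K ((e x).toLinearMap b) = Algebra.trace K L ((x : L) * algebraMap B L b) := by
  classical
  have := h.isFractionRing
  have := h.isLocalization
  have := h.etale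
  have := h.free
  have := h.finiteKL
  have hinj : Function.Injective (algebraMap A K) := IsFractionRing.injective A K
  let g : B →ₗ[A] L := (IsScalarTower.toAlgHom A B L).toLinearMap
  have hloc : IsLocalizedModule (nonZeroDivisors A) g := isLocalizedModule_iff_isLocalization.2 h.isLocalization
  have key : ∀ (x : QFDual.complementary A K B L) (b : B),
      ∃ a : A, algebraMap A K a = Algebra.trace K L ((x : L) * algebraMap B L b) := fun x b => x.2 b
  choose F hF using key
  let f : QFDual.complementary A K B L →ₗ[B] Disc.Omega A B :=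
    { toFun := fun x => ⟨{ toFun := F x
                           map_add' := fun b c => hinj (by rw [map_add (algebraMap A K), hF, hF, hF, map_add (algebraMap B L), mul_add, map_add])
                           map_smul' := fun a b => hinj (by
                            rw [hF, RingHom.id_apply, smul_eq_mul, map_mul (algebraMap A K), hF, Algebra.smul_def a b, map_mul (algebraMap B L),
                              ← IsScalarTower.algebraMap_apply A B L, IsScalarTower.algebraMap_apply A K L,
                              mul_left_comm, ← Algebra.smul_def, map_smul, smul_eq_mul]) }⟩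
      map_add' := fun x y => Disc.Omega.ext (LinearMap.ext fun b => hinj (by
        change algebraMap A K (F (x + y) b) = algebraMap A K (F x b + F y b)
        rw [map_add (algebraMap A K), hF, hF, hF, Submodule.coe_add, add_mul, map_add]))
      map_smul' := fun c x => Disc.Omega.ext (LinearMap.ext fun b => hinj (by
        change algebraMap A K (F (c • x) b) = algebraMap A K (F x (c * b))
        rw [hF, hF, Submodule.coe_smul, Algebra.smul_def, map_mul (algebraMap B L), mul_assoc, mul_left_comm])) }
  have hf : ∀ (x : QFDual.complementary A K B L) (b : B),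
      algebraMap A K ((f x).toLinearMap b) = Algebra.trace K L ((x : L) * algebraMap B L b) := hF
  have hunit : ∀ s : nonZeroDivisors A, IsUnit (algebraMap A (Module.End A K) s) := fun s => by
    rw [Module.End.isUnit_iff]
    exact ⟨fun a b hab => by
        simp only [Module.algebraMap_end_apply, Algebra.smul_def] at hab
        exact (IsLocalization.map_units K s).mul_left_cancel hab,
      fun a => ⟨↑(IsLocalization.map_units K s).unit⁻¹ * a, by
        simp only [Module.algebraMap_end_apply, Algebra.smul_def, ← mul_assoc, IsUnit.mul_val_inv, one_mul]⟩⟩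
  have hext : ∀ {P Q : L →ₗ[K] K}, (∀ b : B, P (algebraMap B L b) = Q (algebraMap B L b)) → P = Q := by
    intro P Q hPQ
    have h1 : P.restrictScalars A = Q.restrictScalars A :=
      IsLocalizedModule.ext (nonZeroDivisors A) g hunit (LinearMap.ext hPQ)
    exact LinearMap.ext fun y => LinearMap.congr_fun h1 y
  have hbij : Function.Bijective f := by
    constructor
    · rw [injective_iff_map_eq_zero]
      intro x hx
      refine Subtype.ext (eq_zero_of_trace_mul_eq_zero (K := K) fun y => ?_)
      have h0 : (Algebra.trace K L) ∘ₗ LinearMap.mulLeft K (x : L) = 0 := hext fun b => by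
        rw [LinearMap.zero_apply, LinearMap.comp_apply, LinearMap.mulLeft_apply, ← hf, hx]
        simp
      exact LinearMap.congr_fun h0 y
    · intro φ
      let φ₁ : L →ₗ[A] K := IsLocalizedModule.lift (nonZeroDivisors A) g ((Algebra.linearMap A K) ∘ₗ φ.toLinearMap)
        hunit
      let φ₂ : L →ₗ[K] K := φ₁.extendScalarsOfIsLocalization (nonZeroDivisors A) K
      obtain ⟨x, hx⟩ := exists_trace_mul_eq φ₂
      have hφ : ∀ b : B, φ₂ (algebraMap B L b) = algebraMap A K (φ.toLinearMap b) := fun b =>
        IsLocalizedModule.lift_apply (nonZeroDivisors A) g _ hunit b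
      have hxm : x ∈ QFDual.complementary A K B L := fun b => ⟨φ.toLinearMap b, by rw [hx, hφ]⟩
      refine ⟨⟨x, hxm⟩, Disc.Omega.ext (LinearMap.ext fun b => hinj ?_)⟩
      rw [hf, hx, hφ]
  exact ⟨LinearEquiv.ofBijective f hbij, hf⟩

theorem trace_algebraMap_mem [Module.Finite A B] [Module.Projective A B] (hloc : IsLocalization
    (Algebra.algebraMapSubmonoid B (nonZeroDivisors A)) L) [IsFractionRing A K] [Module.Free K L] [Module.Finite K L]
    (b : B) : Algebra.trace K L (algebraMap B L b) ∈ (algebraMap A K).range := by
  classical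
  obtain ⟨n, p, hp⟩ := Module.Finite.exists_fin' A B
  obtain ⟨i, hi⟩ := Module.projective_lifting_property p LinearMap.id hp
  let E : (Fin n → A) →ₗ[A] (Fin n → A) := i ∘ₗ LinearMap.mulLeft A b ∘ₗ p
  let g : B →ₗ[A] L := (IsScalarTower.toAlgHom A B L).toLinearMap
  have hlm : IsLocalizedModule (nonZeroDivisors A) g := isLocalizedModule_iff_isLocalization.2 hloc
  have hbc : IsBaseChange K g := (isLocalizedModule_iff_isBaseChange (nonZeroDivisors A) K g).1 hlm
  let iK : L →ₗ[K] (Fin n → K) := hbc.lift
    ((LinearMap.compLeft (Algebra.linearMap A K) (Fin n)) ∘ₗ i)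
  let pK : (Fin n → K) →ₗ[K] L := Fintype.linearCombination K (fun j => g (p (Pi.single j 1)))
  have hiK : ∀ c : B, iK (g c) = fun j => algebraMap A K (i c j) := fun c => hbc.lift_eq _ c
  have hcomp : pK ∘ₗ iK = LinearMap.id := by
    refine hbc.algHom_ext _ _ fun c => ?_
    rw [LinearMap.comp_apply, hiK, LinearMap.id_apply, Fintype.linearCombination_apply]
    simp only [IsScalarTower.algebraMap_smul, ← map_smul, ← map_sum]
    congr 1
    conv_rhs => rw [show c = p (i c) from (LinearMap.congr_fun hi c).symm, pi_eq_sum_univ' (i c)]
  refine ⟨LinearMap.trace A _ E, ?_⟩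
  rw [Algebra.trace_apply]
  conv_rhs => rw [show Algebra.lmul K L (algebraMap B L b) = (Algebra.lmul K L (algebraMap B L b) ∘ₗ pK) ∘ₗ iK by
      rw [LinearMap.comp_assoc, hcomp, LinearMap.comp_id]]
  rw [LinearMap.trace_comp_comm' (R := K)]
  rw [LinearMap.trace_eq_matrix_trace A (Pi.basisFun A (Fin n)), LinearMap.trace_eq_matrix_trace K (Pi.basisFun K (Fin n)),
    Matrix.trace, Matrix.trace, map_sum]
  refine Finset.sum_congr rfl fun j _ => ?_
  simp only [Matrix.diag_apply, LinearMap.toMatrix_apply, Pi.basisFun_repr, Pi.basisFun_apply, LinearMap.comp_apply]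
  have hpj : pK (Pi.single j 1) = g (p (Pi.single j 1)) := by
    simp only [pK, Fintype.linearCombination_apply_single, one_smul]
  rw [hpj]
  have : Algebra.lmul K L (algebraMap B L b) (g (p (Pi.single j 1))) = g (b * p (Pi.single j 1)) := by
    simp [g]
  rw [this, hiK]
  simp [E]

end Groth.Agent.QFDedekind
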